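import Groth.Agent.AlgzW.PiRing
import Mathlib.AlgebraicGeometry.Morphisms.FiniteType
import Mathlib.AlgebraicGeometry.Morphisms.QuasiSeparated
import Mathlib.AlgebraicGeometry.Limits
import Mathlib.RingTheory.FiniteStability

/-!
# Points of schemes of finite type over `ℤ` in product rings

A scheme of finite type over `ℤ` has the same points in `∀ i, A i` as families of points in the `A i`.
-/

universe u

open CategoryTheory Limits AlgebraicGeometry TopologicalSpace

namespace Groth.Agent.AlgzW.PiPoints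

open Groth.Agent.AlgzW.PiRing

section basic

variable {R : Type u} [CommRing R]

/-- The spectrum of a ring. -/
noncomputable abbrev Sp (R : Type u) [CommRing R] : Scheme.{u} := Spec (CommRingCat.of R)

/-- The open immersion of a distinguished open. -/
noncomputable abbrev loc (a : R) : Sp (Localization.Away a) ⟶ Sp R :=
  Spec.map (CommRingCat.ofHom (algebraMap R (Localization.Away a)))

theorem range_loc (a : R) : Set.range (loc a) = (PrimeSpectrum.basicOpen a : Set (PrimeSpectrum R)) :=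
  PrimeSpectrum.localization_away_comap_range (Localization.Away a) a

theorem mem_range_loc {a : R} {x : Sp R} : x ∈ Set.range (loc a) ↔ a ∉ x.asIdeal := by
  rw [range_loc]; rfl

/-- Restriction along a divisibility. -/
noncomputable abbrev σ {a b : R} (hd : a ∣ b) : Sp (Localization.Away b) ⟶ Sp (Localization.Away a) :=
  Spec.map (CommRingCat.ofHom (resR hd))

theorem σ_loc {a b : R} (hd : a ∣ b) : σ hd ≫ loc a = loc b := by
  rw [← Spec.map_comp, ← CommRingCat.ofHom_comp, resR_comp]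

theorem σ_σ {a b c : R} (hab : a ∣ b) (hbc : b ∣ c) : σ hbc ≫ σ hab = σ (hab.trans hbc) := by
  rw [← Spec.map_comp, ← CommRingCat.ofHom_comp, resR_resR]

/-- Finitely many opens covering an affine scheme contain distinguished opens of a unimodular family. -/
theorem exists_cover_elems {κ : Type*} [Finite κ] (W : κ → (Sp R).Opens) (hW : ∀ x, ∃ k, x ∈ W k) :
    ∃ g : κ → R, Ideal.span (Set.range g) = ⊤ ∧ ∀ k, Set.range (loc (g k)) ⊆ (W k : Set (Sp R)) := by
  classical
  cases nonempty_fintype κ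
  let I : κ → Ideal R := fun k => PrimeSpectrum.vanishingIdeal ((W k : Set (Sp R))ᶜ : Set (Sp R))
  have htop : ⨆ k, I k = ⊤ := by
    by_contra h
    obtain ⟨m, hm, hle⟩ := Ideal.exists_le_maximal _ h
    obtain ⟨k, hk⟩ := hW ⟨m, hm.isPrime⟩
    have hmem : (⟨m, hm.isPrime⟩ : PrimeSpectrum R) ∈ PrimeSpectrum.zeroLocus (I k : Set R) := (le_iSup I k).trans hle
    rw [PrimeSpectrum.zeroLocus_vanishingIdeal_eq_closure] at hmem
    exact ((W k).2.isClosed_compl.closure_subset hmem) hk
  have h1 : (1 : R) ∈ ⨆ k ∈ (Finset.univ : Finset κ), I k := by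
    rw [iSup_congr fun k => iSup_pos (f := fun _ => I k) (Finset.mem_univ k), htop]; trivial
  obtain ⟨μ, hμ⟩ := (Submodule.mem_iSup_finset_iff_exists_sum _ _).1 h1
  refine ⟨fun k => μ k, (Ideal.eq_top_iff_one _).2 ?_, fun k x hx => ?_⟩
  · rw [← hμ]
    exact Ideal.sum_mem _ fun k _ => Ideal.subset_span ⟨k, rfl⟩
  · by_contra hxk
    exact mem_range_loc.1 hx ((PrimeSpectrum.mem_vanishingIdeal _ _).1 (μ k).2 x hxk)

/-- A morphism from an affine scheme into an affine open comes from a ring map. -/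
theorem exists_factor {X : Scheme.{u}} {U : X.Opens} (hU : IsAffineOpen U) (F : Sp R ⟶ X)
    (hF : ∀ x, F x ∈ U) : ∃ φ : Γ(X, U) →+* R, F = Spec.map (CommRingCat.ofHom φ) ≫ hU.fromSpec := by
  have h : Set.range F ⊆ Set.range hU.fromSpec := by
    rw [hU.range_fromSpec]; rintro _ ⟨x, rfl⟩; exact hF x
  obtain ⟨φ, hφ⟩ := Spec.map_surjective (IsOpenImmersion.lift hU.fromSpec F h)
  refine ⟨φ.hom, ?_⟩
  rw [CommRingCat.ofHom_hom, hφ, IsOpenImmersion.lift_fac]

theorem factor_injective {X : Scheme.{u}} {U : X.Opens} (hU : IsAffineOpen U) {φ γ : Γ(X, U) →+* R}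
    (h : Spec.map (CommRingCat.ofHom φ) ≫ hU.fromSpec = Spec.map (CommRingCat.ofHom γ) ≫ hU.fromSpec) : φ = γ :=
  congrArg CommRingCat.Hom.hom (Spec.map_injective ((cancel_mono hU.fromSpec).1 h))

end basic

variable {ι : Type u} {A : ι → Type u} [∀ i, CommRing (A i)]

/-- The component inclusion. -/
noncomputable abbrev cmp (h : ∀ i, A i) (i : ι) : Sp (Localization.Away (h i)) ⟶ Sp (Localization.Away h) :=
  Spec.map (CommRingCat.ofHom (compR h i))

variable (A) in
/-- The component inclusion. -/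
noncomputable abbrev ev (i : ι) : Sp (A i) ⟶ Sp (∀ i, A i) :=
  Spec.map (CommRingCat.ofHom (Pi.evalRingHom A i))

theorem cmp_loc (h : ∀ i, A i) (i : ι) : cmp h i ≫ loc h = loc (h i) ≫ ev A i := by
  rw [← Spec.map_comp, ← Spec.map_comp, ← CommRingCat.ofHom_comp, ← CommRingCat.ofHom_comp, compR_comp]

theorem cmp_σ {h h' : ∀ i, A i} (hd : h ∣ h') (i : ι) :
    cmp h' i ≫ σ hd = σ (dvd_apply hd i) ≫ cmp h i := by
  rw [← Spec.map_comp, ← Spec.map_comp, ← CommRingCat.ofHom_comp, ← CommRingCat.ofHom_comp, compR_resR]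

/-- The sections on affine opens of a scheme of finite type over `ℤ` are rings of finite type. -/
theorem finiteType_sections (X : Scheme.{u}) [LocallyOfFiniteType (specULiftZIsTerminal.from X)]
    {U : X.Opens} (hU : IsAffineOpen U) : Algebra.FiniteType ℤ Γ(X, U) := by
  have h := (specULiftZIsTerminal.from X).finiteType_appLE (isAffineOpen_top _) hU (by simp)
  let e : ℤ →+* Γ(Spec (CommRingCat.of (ULift.{u} ℤ)), ⊤) :=
    (Scheme.ΓSpecIso (CommRingCat.of (ULift.{u} ℤ))).commRingCatIsoToRingEquiv.symm.toRingHom.comp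
      (ULift.ringEquiv.{0, u} (R := ℤ)).symm.toRingHom
  have he : Function.Surjective e :=
    (Scheme.ΓSpecIso (CommRingCat.of (ULift.{u} ℤ))).commRingCatIsoToRingEquiv.symm.surjective.comp
      (ULift.ringEquiv.{0, u} (R := ℤ)).symm.surjective
  have h2 := h.comp (RingHom.FiniteType.of_surjective e he)
  rw [← RingHom.finiteType_algebraMap]
  rw [RingHom.ext_int (algebraMap ℤ Γ(X, U)) ((CommRingCat.Hom.hom ((specULiftZIsTerminal.from X).appLE ⊤ U (by simp))).comp e)]
  exact h2

variable {X : Scheme.{u}} [QuasiSeparatedSpace X]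

/-- Two points of `X` agreeing componentwise agree after refining, if one lands in an affine open. -/
theorem exists_ref_eq [LocallyOfFiniteType (specULiftZIsTerminal.from X)] (h : ∀ i, A i)
    (F G : Sp (Localization.Away h) ⟶ X) {U : X.Opens} (hU : IsAffineOpen U) (hF : ∀ x, F x ∈ U)
    (hFG : ∀ i, cmp h i ≫ F = cmp h i ≫ G) :
    ∃ (h' : ∀ i, A i) (r : Ref h h'), σ r.dvd ≫ F = σ r.dvd ≫ G := by
  classical
  haveI := finiteType_sections X hU
  have : QuasiCompact G := quasiCompact_of_compactSpace G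
  obtain ⟨I, hI, hW⟩ := PrimeSpectrum.isCompact_isOpen_iff_ideal.1
    ⟨QuasiCompact.isCompact_preimage (f := G) _ U.2 hU.isCompact, (G ⁻¹ᵁ U).2⟩
  obtain ⟨t, ht⟩ := hI
  have hmem : ∀ x : Sp (Localization.Away h), G x ∈ U ↔ ¬ Ideal.span (t : Set (Localization.Away h)) ≤ x.asIdeal := by
    intro x
    have := Set.ext_iff.1 hW x
    rw [← ht] at this
    exact this.symm
  obtain ⟨h₁, r₁, htop⟩ := exists_ref_span_eq_top h t fun i => by
    by_contra hne
    obtain ⟨m, hm, hle⟩ := Ideal.exists_le_maximal _ hne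
    let x : Sp (Localization.Away (h i)) := ⟨m, hm.isPrime⟩
    refine ((hmem (cmp h i x)).1 ?_) (Ideal.span_le.2 fun y hy => hle (Ideal.subset_span (Set.mem_image_of_mem _ hy)))
    rw [← Scheme.Hom.comp_apply, ← hFG i, Scheme.Hom.comp_apply]
    exact hF _
  have hG₁ : ∀ x, (σ r₁.dvd ≫ G) x ∈ U := fun x => by
    rw [Scheme.Hom.comp_apply, hmem]
    intro hle
    refine x.isPrime.ne_top (top_le_iff.1 (htop ▸ Ideal.span_le.2 ?_))
    rintro _ ⟨y, hy, rfl⟩
    exact hle (Ideal.subset_span hy)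
  obtain ⟨φ, hφ⟩ := exists_factor hU (σ r₁.dvd ≫ F) fun x => hF _
  obtain ⟨γ, hγ⟩ := exists_factor hU (σ r₁.dvd ≫ G) hG₁
  obtain ⟨h₂, r₂, he⟩ := exists_ref_comp_eq h₁ φ γ fun i => by
    apply factor_injective hU
    rw [CommRingCat.ofHom_comp, CommRingCat.ofHom_comp, Spec.map_comp_assoc, Spec.map_comp_assoc, ← hφ, ← hγ,
      ← Category.assoc, ← Category.assoc (cmp h₁ i), cmp_σ, Category.assoc, Category.assoc, hFG i]
  refine ⟨h₂, r₁.trans r₂, ?_⟩
  rw [← σ_σ r₁.dvd r₂.dvd, Category.assoc, Category.assoc, hφ, hγ, ← Spec.map_comp_assoc, ← Spec.map_comp_assoc,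
    ← CommRingCat.ofHom_comp, ← CommRingCat.ofHom_comp, he]

/-- A finite affine cover. -/
theorem exists_affine_cover (X : Scheme.{u}) [CompactSpace X] :
    ∃ (n : ℕ) (U : Fin n → X.Opens), (∀ k, IsAffineOpen (U k)) ∧ ∀ x, ∃ k, x ∈ U k := by
  obtain ⟨t, ht⟩ := isCompact_univ.elim_finite_subcover (fun U : X.affineOpens => (U.1 : Set X)) (fun U => U.1.2)
    (fun x _ => by
      obtain ⟨U, hU, hx, -⟩ := Opens.isBasis_iff_nbhd.mp X.isBasis_affineOpens (U := ⊤) (x := x) trivial
      exact Set.mem_iUnion.mpr ⟨⟨U, hU⟩, hx⟩)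
  refine ⟨t.card, fun k => (t.equivFin.symm k).1.1, fun k => (t.equivFin.symm k).1.2, fun x => ?_⟩
  obtain ⟨U, hU, hx⟩ := Set.mem_iUnion₂.1 (ht (Set.mem_univ x))
  exact ⟨t.equivFin ⟨U, hU⟩, by simpa using hx⟩

/-- Morphisms from the spectrum of a product into a scheme of finite type over `ℤ` are determined componentwise. -/
theorem hom_ext [CompactSpace X] [LocallyOfFiniteType (specULiftZIsTerminal.from X)]
    (F G : Sp (∀ i, A i) ⟶ X) (hFG : ∀ i, ev A i ≫ F = ev A i ≫ G) : F = G := by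
  classical
  obtain ⟨n, U, hU, hcov⟩ := exists_affine_cover X
  obtain ⟨g, hg, hgU⟩ := exists_cover_elems (fun k => F ⁻¹ᵁ U k) fun x => hcov (F x)
  choose g' r hr using fun k => exists_ref_eq (g k) (loc (g k) ≫ F) (loc (g k) ≫ G) (hU k)
    (fun x => hgU k ⟨x, rfl⟩) fun i => by
      rw [← Category.assoc, cmp_loc, Category.assoc, hFG i, ← Category.assoc, ← cmp_loc, Category.assoc]
  have hg' : Ideal.span (Set.range g') = ⊤ := span_eq_top_of_forall g' fun i => span_eq_top_of_ref r i (by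
    have := congrArg (Ideal.map (Pi.evalRingHom A i)) hg
    rw [Ideal.map_span, Ideal.map_top, ← Set.range_comp] at this
    exact this)
  refine (Scheme.affineOpenCoverOfSpanRangeEqTop (R := CommRingCat.of (∀ i, A i)) g' hg').openCover.hom_ext F G fun k => ?_
  change loc (g' k) ≫ F = loc (g' k) ≫ G
  rw [← σ_loc (r k).dvd, Category.assoc, Category.assoc]
  exact hr k

/-- Every family of points in the components comes from a point in the product. -/
theorem exists_hom [CompactSpace X] [LocallyOfFiniteType (specULiftZIsTerminal.from X)]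
    (f : ∀ i, Sp (A i) ⟶ X) : ∃ F : Sp (∀ i, A i) ⟶ X, ∀ i, ev A i ≫ F = f i := by
  classical
  obtain ⟨n, U, hU, hcov⟩ := exists_affine_cover X
  choose γ hγ hγU using fun i => exists_cover_elems (fun k => f i ⁻¹ᵁ U k) fun x => hcov (f i x)
  let g : Fin n → ∀ i, A i := fun k i => γ i k
  choose φ hφ using fun k i => exists_factor (hU k) (loc (g k i) ≫ f i) fun x => hγU i k ⟨x, rfl⟩
  haveI := fun k => finiteType_sections X (hU k)
  choose g' r Φ hΦ using fun k => exists_ref_lift (g k) (φ k)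
  let F : ∀ k, Sp (Localization.Away (g' k)) ⟶ X := fun k => Spec.map (CommRingCat.ofHom (Φ k)) ≫ (hU k).fromSpec
  have hagree : ∀ (k : Fin n) (h : ∀ i, A i) (hd : g' k ∣ h) (i : ι), cmp h i ≫ σ hd ≫ F k = loc (h i) ≫ f i := by
    intro k h hd i
    have e : cmp (g' k) i ≫ F k = loc (g' k i) ≫ f i := by
      rw [← σ_loc (dvd_apply (r k).dvd i), Category.assoc, hφ k i, ← Spec.map_comp_assoc, ← CommRingCat.ofHom_comp,
        hΦ k i, CommRingCat.ofHom_comp, Spec.map_comp_assoc]
    rw [← Category.assoc, cmp_σ, Category.assoc, e, ← Category.assoc, σ_loc]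
  choose h rh heq using fun kl : Fin n × Fin n =>
    exists_ref_eq (g' kl.1 * g' kl.2) (σ (dvd_mul_right _ (g' kl.2)) ≫ F kl.1) (σ (dvd_mul_left _ (g' kl.1)) ≫ F kl.2)
      (hU kl.1) (fun x => by
        have h := Set.mem_range_self (f := (hU kl.1).fromSpec)
          ((σ (dvd_mul_right _ (g' kl.2)) ≫ Spec.map (CommRingCat.ofHom (Φ kl.1))) x)
        rw [(hU kl.1).range_fromSpec] at h
        exact h)
      fun i => by rw [hagree, hagree]
  choose m hm using fun (kl : Fin n × Fin n) (i : ι) => (rh kl).exists_dvd_pow i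
  let M : ι → ℕ := fun i => Finset.univ.sup fun kl => m kl i
  let G : Fin n → ∀ i, A i := fun k i => g' k i ^ (M i + 1)
  have rG : ∀ k, Ref (g' k) (G k) := fun k => ref_pow (g' k) M
  have hdvd : ∀ k l, h (k, l) ∣ G k * G l := fun k l => by
    have : ∀ i, h (k, l) i ∣ (G k * G l) i := fun i => by
      refine (hm (k, l) i).trans ?_
      simp only [G, Pi.mul_apply, ← mul_pow]
      exact pow_dvd_pow _ ((Finset.le_sup (f := fun kl => m kl i) (Finset.mem_univ (k, l))).trans (Nat.le_succ _))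
    choose c hc using this
    exact ⟨c, funext hc⟩
  have hG : Ideal.span (Set.range G) = ⊤ := span_eq_top_of_forall G fun i =>
    span_eq_top_of_ref (fun k => (r k).trans (rG k)) i (hγ i)
  let 𝒰 := (Scheme.affineOpenCoverOfSpanRangeEqTop (R := CommRingCat.of (∀ i, A i)) G hG).openCover
  refine ⟨𝒰.glueMorphisms (fun k => σ (rG k).dvd ≫ F k) fun k l => ?_, fun i => ?_⟩
  · change pullback.fst (loc (G k)) (loc (G l)) ≫ σ (rG k).dvd ≫ F k = pullback.snd (loc (G k)) (loc (G l)) ≫ σ (rG l).dvd ≫ F l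
    let q : pullback (loc (G k)) (loc (G l)) ⟶ Sp (Localization.Away (G k * G l)) :=
      IsOpenImmersion.lift (loc (G k * G l)) (pullback.fst (loc (G k)) (loc (G l)) ≫ loc (G k)) (by
        rintro _ ⟨x, rfl⟩
        have h1 : G k ∉ ((pullback.fst (loc (G k)) (loc (G l)) ≫ loc (G k)) x).asIdeal := by
          rw [Scheme.Hom.comp_apply]; exact mem_range_loc.1 ⟨_, rfl⟩
        have h2 : G l ∉ ((pullback.fst (loc (G k)) (loc (G l)) ≫ loc (G k)) x).asIdeal := by
          rw [pullback.condition, Scheme.Hom.comp_apply]; exact mem_range_loc.1 ⟨_, rfl⟩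
        rw [mem_range_loc]
        exact fun hkl => (((pullback.fst (loc (G k)) (loc (G l)) ≫ loc (G k)) x).isPrime.mem_or_mem hkl).elim h1 h2)
    have hq1 : q ≫ σ (dvd_mul_right _ (G l)) = pullback.fst (loc (G k)) (loc (G l)) := by
      rw [← cancel_mono (loc (G k)), Category.assoc, σ_loc, IsOpenImmersion.lift_fac]
    have hq2 : q ≫ σ (dvd_mul_left _ (G k)) = pullback.snd (loc (G k)) (loc (G l)) := by
      rw [← cancel_mono (loc (G l)), Category.assoc, σ_loc, IsOpenImmersion.lift_fac, pullback.condition]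
    have e := congrArg (fun z => q ≫ σ (hdvd k l) ≫ z) (heq (k, l))
    simp only [← Category.assoc] at e ⊢
    rw [← hq1, ← hq2]
    simp only [Category.assoc] at e ⊢
    simp only [reassoc_of% @σ_σ] at e ⊢
    exact e
  · refine (Scheme.affineOpenCoverOfSpanRangeEqTop (R := CommRingCat.of (A i)) (fun k => G k i)
      (span_eq_top_of_ref (fun k => (r k).trans (rG k)) i (hγ i))).openCover.hom_ext _ _ fun k => ?_
    change loc (G k i) ≫ ev A i ≫ _ = loc (G k i) ≫ f i
    rw [← Category.assoc, ← cmp_loc, Category.assoc, ← hagree k (G k) (rG k).dvd i]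
    congr 1
    exact 𝒰.ι_glueMorphisms _ _ k

end Groth.Agent.AlgzW.PiPoints
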