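import Groth.Agent.AlgzW.NisGen
import Groth.Agent.FlatMor.PullTilde
import Groth.Agent.KFlat.LocFree
import Groth.Agent.QCoh.Exact
import Groth.Agent.Props.QFP
import Groth.Prelude.Def_FlatMod2

/-!
# Generators of a module from global generators on a scheme over the spectrum

If `f : U ⟶ Spec R`, `O^N → f^* M~` is an epimorphism and `f` has sections over locally closed
pieces covering `Spec R` in `m` steps, then `M` is generated by `m * N` elements.
-/

set_option autoImplicit false

universe u

open CategoryTheory CategoryTheory.Limits AlgebraicGeometry TopologicalSpace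
open scoped TensorProduct

namespace Groth.Agent.AlgzW.EpiGen

open NisGen Groth.Agent.Props

section Free

variable {S : CommRingCat.{u}}

/-- An epimorphism from a free module of rank `N` to `M~` gives `N` generators of `M`. -/
theorem nGen_of_epi (M : ModuleCat.{u} S) (N : ℕ) (φ : FlatMod.freeMod (Spec S) N ⟶ tilde M)
    [Epi φ] : NGen S M N := by
  let F : ModuleCat.{u} S := ModuleCat.of S (ULift.{u} (Fin N) →₀ S)
  let e : tilde F ≅ FlatMod.freeMod (Spec S) N :=
    tildeFinsupp (ULift.{u} (Fin N)) ≪≫ QProj.freeModIso (Spec S) N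
  let ψ : tilde F ⟶ tilde M := e.hom ≫ φ
  have hψ : Function.Surjective (ψ.app ⊤) :=
    QCoh.app_surjective_of_epi ψ (isAffineOpen_top (Spec S))
  let L : F →ₗ[S] M :=
    (QTilde.topEquiv M).symm.toLinearMap ∘ₗ (moduleSpecΓFunctor.map ψ).hom ∘ₗ
      (QTilde.topEquiv F).toLinearMap
  have hL : Function.Surjective L :=
    (QTilde.topEquiv M).symm.surjective.comp (hψ.comp (QTilde.topEquiv F).surjective)
  let d : (Fin N → S) ≃ₗ[S] F :=
    (LinearEquiv.funCongrLeft S S Equiv.ulift).trans (Finsupp.linearEquivFunOnFinite S S _).symm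
  exact ⟨L ∘ₗ d.toLinearMap, hL.comp d.surjective⟩

end Free

variable {R : CommRingCat.{u}} (M : ModuleCat.{u} R) {U : Scheme.{u}} (f : U ⟶ Spec R)

/-- Generators after base change along a point of `U`. -/
theorem nGen_baseChange {N : ℕ} (φ : FlatMod.freeMod U N ⟶ (Scheme.Modules.pullback f).obj (tilde M))
    [Epi φ] {S : Type u} [CommRing S] (ψ : R →+* S) (a : Spec (CommRingCat.of S) ⟶ U)
    (ha : a ≫ f = Spec.map (CommRingCat.ofHom ψ)) :
    letI := ψ.toAlgebra; NGen S (S ⊗[R] M) N := by
  let := ψ.toAlgebra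
  let M' : ModuleCat.{u} (CommRingCat.of S) := ModuleCat.of S (S ⊗[R] M)
  obtain ⟨c⟩ := FlatMor.PullTilde.nonempty_pullback_tilde (CommRingCat.ofHom ψ) M (tilde M')
    (QTilde.topEquiv M')
  have : Epi ((Scheme.Modules.pullback a).map φ) := by
    have : (Scheme.Modules.pullback a).IsLeftAdjoint :=
      (Scheme.Modules.pullbackPushforwardAdjunction a).isLeftAdjoint
    exact (Scheme.Modules.pullback a).map_epi φ
  let θ : FlatMod.freeMod (Spec (CommRingCat.of S)) N ⟶ tilde M' :=
    (KFlat.LocFree.pullFreeIso a N).inv ≫ (Scheme.Modules.pullback a).map φ ≫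
      ((Scheme.Modules.pullbackComp a f ≪≫ Scheme.Modules.pullbackCongr ha).app (tilde M)).hom ≫ c.hom
  exact nGen_of_epi M' N θ

/-- One step: `n` more elements kill the support on a closed subset over which `f` has a section. -/
theorem exists_step [Module.Finite R M] {N : ℕ}
    (φ : FlatMod.freeMod U N ⟶ (Scheme.Modules.pullback f).obj (tilde M)) [Epi φ]
    {k : ℕ} (v : Fin k → M) (J : Ideal R) {a : Spec (CommRingCat.of (R ⧸ J)) ⟶ U}
    (ha : a ≫ f = Spec.map (CommRingCat.ofHom (Ideal.Quotient.mk J))) :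
    ∃ w : Fin (k + N) → M,
      Module.support R (M ⧸ Submodule.span R (Set.range w)) ⊆
        Module.support R (M ⧸ Submodule.span R (Set.range v)) \
          PrimeSpectrum.zeroLocus (J : Set R) := by
  have hq : NGen (R ⧸ J) ((R ⧸ J) ⊗[R] M) N := nGen_baseChange M f φ (Ideal.Quotient.mk J) a ha
  obtain ⟨w, r, hr1, hr2⟩ := exists_span_of_nGen_quotient hq
  let v' : Fin (k + N) → M := fun i => Fin.addCases (motive := fun _ => M) v w i
  refine ⟨v', fun p hps => ?_⟩
  let S := Submodule.span R (Set.range v)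
  let S' := Submodule.span R (Set.range v')
  have hmem : ∀ x, x ∈ Set.range v ∨ x ∈ Set.range w → x ∈ S' := by
    rintro x (⟨i, rfl⟩ | ⟨i, rfl⟩) <;> apply Submodule.subset_span
    · exact ⟨Fin.castAdd N i, by simp [v']⟩
    · exact ⟨Fin.natAdd k i, by simp [v']⟩
  have hSS' : S ≤ S' := Submodule.span_le.2 fun x hx => hmem x (Or.inl hx)
  refine ⟨Module.support_subset_of_surjective (Submodule.mapQ S S' LinearMap.id hSS')
    (fun x => ?_) hps, fun hJp => ?_⟩
  · obtain ⟨m, rfl⟩ := S'.mkQ_surjective x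
    exact ⟨S.mkQ m, rfl⟩
  have hrp : r ∉ p.asIdeal := fun hrp => p.isPrime.ne_top (p.asIdeal.eq_top_iff_one.2 (by
    simpa using p.asIdeal.sub_mem hrp (hJp hr1)))
  obtain ⟨x, hx⟩ := Module.mem_support_iff_exists_annihilator.1 hps
  refine hrp (hx ?_)
  rw [Submodule.mem_annihilator_span_singleton]
  obtain ⟨m, rfl⟩ := S'.mkQ_surjective x
  rw [← map_smul]
  exact (Submodule.Quotient.mk_eq_zero _).2
    ((Submodule.span_le.2 fun x hx => hmem x (Or.inr hx)) (hr2 m))

/-- A point of `U` over every reduced closed subscheme contained in a set with a section. -/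
theorem exists_point_of_hasSectOver {W : Set ↥(Spec R)} (h : W4c5algebraiztannaka.HasSectOver f W)
    (J : Ideal R) (hJ : J.IsRadical) (hW : PrimeSpectrum.zeroLocus (J : Set R) ⊆ W) :
    ∃ a : Spec (CommRingCat.of (R ⧸ J)) ⟶ U,
      a ≫ f = Spec.map (CommRingCat.ofHom (Ideal.Quotient.mk J)) := by
  obtain ⟨T, g, s, hg, hgW, hs⟩ := h
  let i : Spec (CommRingCat.of (R ⧸ J)) ⟶ Spec R :=
    Spec.map (CommRingCat.ofHom (Ideal.Quotient.mk J))
  have : IsReduced (R ⧸ J) := (Ideal.isRadical_iff_quotient_reduced J).1 hJ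
  have hi : Set.range (fun t => i t) ⊆ W := by
    rintro _ ⟨t, rfl⟩
    apply hW
    intro a ha
    change a ∈ Ideal.comap (Ideal.Quotient.mk J) t.asIdeal
    rw [Ideal.mem_comap, Ideal.Quotient.eq_zero_iff_mem.2 ha]
    exact zero_mem _
  let p := Limits.pullback.fst i g
  have hr : Set.range (fun t => p t) = Set.univ := by
    refine (Scheme.Pullback.range_fst (f := i) (g := g)).trans ?_
    refine Set.eq_univ_of_forall fun t => ?_
    show i t ∈ Set.range (fun t => g t)
    rw [hgW]
    exact hi ⟨t, rfl⟩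
  have : IsClosedImmersion p := .of_isPreimmersion _ (by
    rw [show Set.range (p.base) = Set.univ from hr]; exact isClosed_univ)
  have : Surjective p := ⟨Set.range_eq_univ.1 hr⟩
  have := isIso_of_isClosedImmersion_of_surjective p
  refine ⟨inv p ≫ Limits.pullback.snd i g ≫ s, ?_⟩
  rw [Category.assoc, Category.assoc, hs, ← Limits.pullback.condition, IsIso.inv_hom_id_assoc]

/-- A point of `U` over every reduced closed subscheme contained in the range of an open immersion. -/
theorem exists_point_of_isOpenImmersion [IsOpenImmersion f] (J : Ideal R)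
    (hW : PrimeSpectrum.zeroLocus (J : Set R) ⊆ Set.range f.base) :
    ∃ a : Spec (CommRingCat.of (R ⧸ J)) ⟶ U,
      a ≫ f = Spec.map (CommRingCat.ofHom (Ideal.Quotient.mk J)) := by
  have hle : Set.range (Spec.map (CommRingCat.ofHom (Ideal.Quotient.mk J))).base ⊆
      Set.range f.base := by
    refine Set.Subset.trans ?_ hW
    rintro _ ⟨t, rfl⟩ a ha
    change a ∈ Ideal.comap (Ideal.Quotient.mk J) t.asIdeal
    rw [Ideal.mem_comap, Ideal.Quotient.eq_zero_iff_mem.2 ha]
    exact zero_mem _
  exact ⟨IsOpenImmersion.lift f _ hle, IsOpenImmersion.lift_fac f _ hle⟩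

end Groth.Agent.AlgzW.EpiGen
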