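import Groth.Prelude.Def_W4c5algebraiztannakaNis
import Mathlib.RingTheory.Flat.FaithfullyFlat.Algebra
import Mathlib.AlgebraicGeometry.Morphisms.ClosedImmersion
import Mathlib.AlgebraicGeometry.Morphisms.Flat
import Mathlib.AlgebraicGeometry.PullbackCarrier
import Mathlib.RingTheory.Nakayama
import Mathlib.RingTheory.Support
import Mathlib.LinearAlgebra.TensorProduct.RightExactness

/-!
# Generators of a module along a Nisnevich cover of bounded length

If `Spec B → Spec R` is a Nisnevich cover of length at most `N` and the finite `R`-module `M`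
becomes generated by `n` elements over `B`, then `M` is generated by `N * n` elements.
-/

universe u

open CategoryTheory AlgebraicGeometry TensorProduct

namespace Groth.Agent.AlgzW.NisGen

/-- `M` is generated by `n` elements. -/
def NGen (R M : Type u) [CommRing R] [AddCommGroup M] [Module R M] (n : ℕ) : Prop :=
  ∃ f : (Fin n → R) →ₗ[R] M, Function.Surjective f

section NGen

variable {R M M' : Type u} [CommRing R] [AddCommGroup M] [Module R M] [AddCommGroup M']
  [Module R M']

lemma nGen_iff {n : ℕ} :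
    NGen R M n ↔ ∃ v : Fin n → M, Submodule.span R (Set.range v) = ⊤ := by
  constructor
  · rintro ⟨f, hf⟩
    refine ⟨fun i => f (Pi.single i 1), ?_⟩
    rw [show Set.range (fun i => f (Pi.single i 1)) =
        f '' Set.range (fun i : Fin n => (Pi.single i 1 : Fin n → R)) from Set.range_comp _ _,
      Submodule.span_image]
    rw [show Submodule.span R (Set.range fun i : Fin n => (Pi.single i 1 : Fin n → R)) = ⊤ by
      rw [← (Pi.basisFun R (Fin n)).span_eq]
      congr 2
      funext i
      rw [Pi.basisFun_apply]]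
    rw [Submodule.map_top, LinearMap.range_eq_top.2 hf]
  · rintro ⟨v, hv⟩
    exact ⟨Fintype.linearCombination R v, LinearMap.range_eq_top.1 (by
      rw [Fintype.range_linearCombination, hv])⟩

lemma NGen.of_surjective {n : ℕ} (h : NGen R M n) (g : M →ₗ[R] M') (hg : Function.Surjective g) :
    NGen R M' n := by
  obtain ⟨f, hf⟩ := h
  exact ⟨g.comp f, hg.comp hf⟩

lemma NGen.mono {n m : ℕ} (h : NGen R M n) (hnm : n ≤ m) : NGen R M m := by
  obtain ⟨f, hf⟩ := h
  refine ⟨f.comp (LinearMap.funLeft R R (Fin.castLE hnm)), hf.comp ?_⟩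
  exact LinearMap.funLeft_surjective_of_injective R R _ (Fin.castLE_injective _)

lemma NGen.of_subsingleton [Subsingleton M] (n : ℕ) : NGen R M n :=
  ⟨0, fun _ => ⟨0, Subsingleton.elim _ _⟩⟩

lemma NGen.finite {n : ℕ} (h : NGen R M n) : Module.Finite R M := by
  obtain ⟨f, hf⟩ := h
  exact Module.Finite.of_surjective f hf

lemma NGen.prod {n m : ℕ} (h : NGen R M n) (h' : NGen R M' m) : NGen R (M × M') (n + m) := by
  obtain ⟨f, hf⟩ := h
  obtain ⟨f', hf'⟩ := h'
  let e : (Fin (n + m) → R) ≃ₗ[R] (Fin n → R) × (Fin m → R) :=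
    (LinearEquiv.funCongrLeft R R finSumFinEquiv).trans (LinearEquiv.sumArrowLequivProdArrow _ _ R R)
  exact ⟨(f.prodMap f').comp e.toLinearMap, (hf.prodMap hf').comp e.surjective⟩

lemma NGen.baseChange {n : ℕ} (h : NGen R M n) (B : Type u) [CommRing B] [Algebra R B] :
    NGen B (B ⊗[R] M) n := by
  obtain ⟨f, hf⟩ := h
  refine ⟨(f.baseChange B).comp (TensorProduct.piScalarRight R B B (Fin n)).symm.toLinearMap,
    ?_⟩
  rw [LinearMap.coe_comp, LinearMap.baseChange_eq_ltensor]
  exact (LinearMap.lTensor_surjective B hf).comp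
    (TensorProduct.piScalarRight R B B (Fin n)).symm.surjective

end NGen

section Strata

variable {R B : Type u} [CommRing R] [CommRing B] {φ : R →+* B}

/-- A section of `Spec B → Spec R` over a set gives a ring map to the reduced quotient of any
closed subset of it. -/
lemma exists_ringHom_of_hasSectOver {W : Set ↥(Spec (CommRingCat.of R))}
    (h : W4c5algebraiztannaka.HasSectOver (Spec.map (CommRingCat.ofHom φ)) W)
    (J : Ideal R) (hJ : J.IsRadical) (hW : PrimeSpectrum.zeroLocus (J : Set R) ⊆ W) :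
    ∃ ψ : B →+* R ⧸ J, ψ.comp φ = Ideal.Quotient.mk J := by
  obtain ⟨T, g, s, hg, hgW, hs⟩ := h
  let i : Spec (CommRingCat.of (R ⧸ J)) ⟶ Spec (CommRingCat.of R) :=
    Spec.map (CommRingCat.ofHom (Ideal.Quotient.mk J))
  have : IsReduced (R ⧸ J) := (Ideal.isRadical_iff_quotient_reduced J).1 hJ
  have hi : Set.range (fun t => i t) ⊆ W := by
    rintro _ ⟨t, rfl⟩
    apply hW
    intro a ha
    change a ∈ Ideal.comap (Ideal.Quotient.mk J) t.asIdeal
    rw [Ideal.mem_comap, Ideal.Quotient.eq_zero_iff_mem.2 ha]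
    exact zero_mem _
  let p := Limits.pullback.fst i g
  have hr : Set.range (fun t => p t) = Set.univ := by
    refine (Scheme.Pullback.range_fst (f := i) (g := g)).trans ?_
    refine Set.eq_univ_of_forall fun t => ?_
    show i t ∈ Set.range (fun t => g t)
    rw [hgW]
    exact hi ⟨t, rfl⟩
  have : IsClosedImmersion p := .of_isPreimmersion _ (by
    rw [show Set.range (p.base) = Set.univ from hr]; exact isClosed_univ)
  have : Surjective p := ⟨Set.range_eq_univ.1 hr⟩
  have := isIso_of_isClosedImmersion_of_surjective p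
  have hsec : (inv p ≫ Limits.pullback.snd i g ≫ s) ≫ Spec.map (CommRingCat.ofHom φ) = i := by
    rw [Category.assoc, Category.assoc, hs, ← Limits.pullback.condition, IsIso.inv_hom_id_assoc]
  obtain ⟨ψ, hψ⟩ := Spec.map_surjective (inv p ≫ Limits.pullback.snd i g ≫ s)
  rw [← hψ, ← Spec.map_comp] at hsec
  refine ⟨ψ.hom, ?_⟩
  have := Spec.map_injective hsec
  exact congrArg CommRingCat.Hom.hom this

lemma surjective_comap {N : ℕ}
    (h : W4c5algebraiztannaka.IsNisCoverLen (Spec.map (CommRingCat.ofHom φ)) N) :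
    Function.Surjective (PrimeSpectrum.comap φ) := by
  obtain ⟨Z, h0, hN, -, -, hsect⟩ := h.flag
  intro p
  have key : ∀ k : Fin (N + 1), p ∈ Z k → ∃ q, PrimeSpectrum.comap φ q = p := by
    intro k
    induction k using Fin.induction with
    | zero => intro hp; rw [h0] at hp; exact hp.elim
    | succ k ih =>
      intro hp
      by_cases hp' : p ∈ Z k.castSucc
      · exact ih hp'
      obtain ⟨T, g, s, -, hgW, hs⟩ := hsect k
      obtain ⟨t, ht⟩ : p ∈ Set.range (fun t : T => g t) := by rw [hgW]; exact ⟨hp, hp'⟩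
      refine ⟨s t, ?_⟩
      rw [← ht, ← hs]
      rfl
  exact key (Fin.last N) (by rw [hN]; trivial)

lemma flat {N : ℕ} (h : W4c5algebraiztannaka.IsNisCoverLen (Spec.map (CommRingCat.ofHom φ)) N) :
    φ.Flat := by
  have := h.etale
  exact (HasRingHomProperty.Spec_iff (P := @Flat)).1 (inferInstance :
    Flat (Spec.map (CommRingCat.ofHom φ)))

lemma faithfullyFlat [Algebra R B] {N : ℕ}
    (h : W4c5algebraiztannaka.IsNisCoverLen (Spec.map (CommRingCat.ofHom (algebraMap R B))) N) :
    Module.FaithfullyFlat R B := by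
  have : Module.Flat R B := RingHom.flat_algebraMap_iff.1 (flat h)
  exact Module.FaithfullyFlat.of_comap_surjective (surjective_comap h)

end Strata

/-- If a finite module is generated by `n` elements modulo `J`, then some `n` elements generate it
away from an element of `1 + J`. -/
lemma exists_span_of_nGen_quotient {R M : Type u} [CommRing R] [AddCommGroup M] [Module R M]
    [Module.Finite R M] {J : Ideal R} {n : ℕ} (h : NGen (R ⧸ J) ((R ⧸ J) ⊗[R] M) n) :
    ∃ (v : Fin n → M) (r : R), r - 1 ∈ J ∧ ∀ m : M, r • m ∈ Submodule.span R (Set.range v) := by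
  obtain ⟨w, hw⟩ := nGen_iff.1 h
  have hmk : Function.Surjective fun m : M => (1 : R ⧸ J) ⊗ₜ[R] m := fun x => by
    induction x using TensorProduct.induction_on with
    | zero => exact ⟨0, tmul_zero _ _⟩
    | tmul a m =>
      obtain ⟨a, rfl⟩ := Ideal.Quotient.mk_surjective a
      refine ⟨a • m, ?_⟩
      change (1 : R ⧸ J) ⊗ₜ[R] (a • m) = _
      rw [tmul_smul, smul_tmul', Algebra.smul_def, mul_one]; rfl
    | add x y hx hy =>
      obtain ⟨a, rfl⟩ := hx
      obtain ⟨b, rfl⟩ := hy
      exact ⟨a + b, tmul_add _ _ _⟩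
  choose v hv using fun i => hmk (w i)
  refine ⟨v, ?_⟩
  let S := Submodule.span R (Set.range v)
  have hle : (⊤ : Submodule R (M ⧸ S)) ≤ J • (⊤ : Submodule R (M ⧸ S)) := by
    rintro x -
    obtain ⟨m, rfl⟩ := S.mkQ_surjective x
    have hm : (1 : R ⧸ J) ⊗ₜ[R] m ∈ Submodule.span (R ⧸ J) (Set.range w) := by rw [hw]; trivial
    obtain ⟨c, hc⟩ := (Submodule.mem_span_range_iff_exists_fun _).1 hm
    choose c' hc' using fun i => Ideal.Quotient.mk_surjective (c i)
    have h0 : (1 : R ⧸ J) ⊗ₜ[R] (m - ∑ i, c' i • v i) = 0 := by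
      rw [tmul_sub, tmul_sum, ← hc, sub_eq_zero]
      refine Finset.sum_congr rfl fun i _ => ?_
      rw [← hc', ← hv, tmul_smul, smul_tmul', smul_tmul', smul_eq_mul, mul_one, Algebra.smul_def,
        mul_one]
      rfl
    have hmem : m - ∑ i, c' i • v i ∈ J • (⊤ : Submodule R M) := by
      rw [← Submodule.Quotient.mk_eq_zero]
      apply (TensorProduct.quotTensorEquivQuotSMul M J).symm.injective
      rw [map_zero, ← h0, TensorProduct.quotTensorEquivQuotSMul_symm_mk]
    have := Submodule.mem_map_of_mem (f := S.mkQ) hmem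
    rw [Submodule.map_smul'', map_sub, Submodule.map_top, Submodule.range_mkQ] at this
    rwa [show S.mkQ (∑ i, c' i • v i) = 0 from (Submodule.Quotient.mk_eq_zero _).2
      (sum_mem fun i _ => S.smul_mem _ (Submodule.subset_span ⟨i, rfl⟩)), sub_zero] at this
  obtain ⟨r, hr1, hr2⟩ := Submodule.exists_sub_one_mem_and_smul_eq_zero_of_fg_of_le_smul J ⊤
    (Module.Finite.fg_top) hle
  refine ⟨r, hr1, fun m => ?_⟩
  exact (Submodule.Quotient.mk_eq_zero _).1 (hr2 (S.mkQ m) trivial)

/-- **Generators along a Nisnevich cover of bounded length**. -/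
theorem nGen_of_isNisCoverLen {R B M : Type u} [CommRing R] [CommRing B] [Algebra R B]
    [AddCommGroup M] [Module R M] [Module.Finite R M] {N n : ℕ}
    (h : W4c5algebraiztannaka.IsNisCoverLen (Spec.map (CommRingCat.ofHom (algebraMap R B))) N)
    (hn : NGen B (B ⊗[R] M) n) : NGen R M (N * n) := by
  obtain ⟨Z, h0, hN, hmono, hZ, hsect⟩ := h.flag
  have key : ∀ k : Fin (N + 1), ∃ v : Fin ((k : ℕ) * n) → M, ∀ p : PrimeSpectrum R, p ∈ Z k →
      p ∉ Module.support R (M ⧸ Submodule.span R (Set.range v)) := by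
    intro k
    induction k using Fin.induction with
    | zero =>
      refine ⟨fun _ => 0, fun p hp => ?_⟩
      rw [h0] at hp
      exact hp.elim
    | succ k ih =>
      obtain ⟨v, hv⟩ := ih
      let S := Submodule.span R (Set.range v)
      let C : Set (PrimeSpectrum R) := Module.support R (M ⧸ S) ∩ Z k.succ
      have hC : IsClosed C := (Module.isClosed_support).inter (hZ _).1
      let J : Ideal R := PrimeSpectrum.vanishingIdeal C
      have hJC : PrimeSpectrum.zeroLocus (J : Set R) = C := by
        rw [PrimeSpectrum.zeroLocus_vanishingIdeal_eq_closure, hC.closure_eq]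
      obtain ⟨ψ, hψ⟩ := exists_ringHom_of_hasSectOver (hsect k) J
        (PrimeSpectrum.isRadical_vanishingIdeal C)
        (hJC.subset.trans fun p hp => ⟨hp.2, fun hp' => hv p hp' hp.1⟩)
      have hq : NGen (R ⧸ J) ((R ⧸ J) ⊗[R] M) n := by
        let _ := ψ.toAlgebra
        have : IsScalarTower R B (R ⧸ J) := .of_algebraMap_eq' hψ.symm
        exact (hn.baseChange (R ⧸ J)).of_surjective
          (AlgebraTensorModule.cancelBaseChange R B (R ⧸ J) (R ⧸ J) M).toLinearMap
          (AlgebraTensorModule.cancelBaseChange R B (R ⧸ J) (R ⧸ J) M).surjective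
      obtain ⟨w, r, hr1, hr2⟩ := exists_span_of_nGen_quotient hq
      have hlen : ((k.succ : ℕ) * n) = (k.castSucc : ℕ) * n + n := by
        rw [Fin.val_succ, Nat.succ_mul]; rfl
      let v' : Fin ((k.succ : ℕ) * n) → M := fun i =>
        Fin.addCases (motive := fun _ => M) v w (Fin.cast hlen i)
      refine ⟨v', fun p hp hps => ?_⟩
      let S' := Submodule.span R (Set.range v')
      have hmem : ∀ x, x ∈ Set.range v ∨ x ∈ Set.range w → x ∈ S' := by
        rintro x (⟨i, rfl⟩ | ⟨i, rfl⟩) <;> apply Submodule.subset_span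
        · exact ⟨Fin.cast hlen.symm (Fin.castAdd n i), by simp [v']⟩
        · exact ⟨Fin.cast hlen.symm (Fin.natAdd ((k.castSucc : ℕ) * n) i), by simp [v']⟩
      have hSS' : S ≤ S' := Submodule.span_le.2 fun x hx => hmem x (Or.inl hx)
      have hpC : p ∈ C := ⟨Module.support_subset_of_surjective (Submodule.mapQ S S' LinearMap.id hSS')
        (fun x => by
          obtain ⟨m, rfl⟩ := S'.mkQ_surjective x
          exact ⟨S.mkQ m, rfl⟩) hps, hp⟩
      have hJp : J ≤ p.asIdeal := fun a ha => (PrimeSpectrum.mem_vanishingIdeal _ _).1 ha p hpC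
      have hrp : r ∉ p.asIdeal := fun hrp => p.isPrime.ne_top (p.asIdeal.eq_top_iff_one.2 (by
        simpa using p.asIdeal.sub_mem hrp (hJp hr1)))
      obtain ⟨x, hx⟩ := Module.mem_support_iff_exists_annihilator.1 hps
      refine hrp (hx ?_)
      rw [Submodule.mem_annihilator_span_singleton]
      obtain ⟨m, rfl⟩ := S'.mkQ_surjective x
      rw [← map_smul]
      exact (Submodule.Quotient.mk_eq_zero _).2
        ((Submodule.span_le.2 fun x hx => hmem x (Or.inr hx)) (hr2 m))
  obtain ⟨v, hv⟩ := key (Fin.last N)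
  refine nGen_iff.2 ⟨v, ?_⟩
  have : Subsingleton (M ⧸ Submodule.span R (Set.range v)) := by
    rw [← Module.support_eq_empty_iff (R := R)]
    exact Set.eq_empty_of_forall_notMem fun p => hv p (by rw [hN]; trivial)
  exact Submodule.Quotient.subsingleton_iff.1 this

end Groth.Agent.AlgzW.NisGen
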