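import Mathlib.RingTheory.Localization.Away.Basic
import Mathlib.RingTheory.Localization.Ideal
import Mathlib.RingTheory.Ideal.BigOperators
import Mathlib.RingTheory.FiniteType
import Mathlib.RingTheory.Polynomial.Basic
import Mathlib.Algebra.Ring.Pi

/-!
# Localizations of product rings away from an element, with componentwise refinements

An element `h` of `∀ i, A i` may be refined to `h'` with `h ∣ h'` and `h' i` having componentwise the
same radical as `h i`; componentwise statements become uniform after such a refinement.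
-/

universe u

namespace Groth.Agent.AlgzW.PiRing

variable {ι : Type u} {A : ι → Type u} [∀ i, CommRing (A i)]

/-- The `i`-th component of a localization away from `h`. -/
noncomputable def compR (h : ∀ i, A i) (i : ι) : Localization.Away h →+* Localization.Away (h i) :=
  IsLocalization.Away.lift h (g := (algebraMap (A i) (Localization.Away (h i))).comp (Pi.evalRingHom A i))
    (IsLocalization.Away.algebraMap_isUnit (h i))

theorem compR_algebraMap (h a : ∀ i, A i) (i : ι) :
    compR h i (algebraMap _ _ a) = algebraMap (A i) _ (a i) :=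
  IsLocalization.Away.lift_eq _ _ _

theorem compR_comp (h : ∀ i, A i) (i : ι) :
    (compR h i).comp (algebraMap _ _) = (algebraMap (A i) _).comp (Pi.evalRingHom A i) :=
  RingHom.ext fun a => compR_algebraMap h a i

/-- Restriction along a divisibility. -/
noncomputable def resR {R : Type u} [CommRing R] {a b : R} (hd : a ∣ b) :
    Localization.Away a →+* Localization.Away b :=
  IsLocalization.Away.lift a (g := algebraMap R (Localization.Away b))
    (isUnit_of_dvd_unit (map_dvd _ hd) (IsLocalization.Away.algebraMap_isUnit b))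

theorem resR_algebraMap {R : Type u} [CommRing R] {a b : R} (hd : a ∣ b) (x : R) :
    resR hd (algebraMap R _ x) = algebraMap R _ x :=
  IsLocalization.Away.lift_eq _ _ _

theorem resR_comp {R : Type u} [CommRing R] {a b : R} (hd : a ∣ b) :
    (resR hd).comp (algebraMap R _) = algebraMap R _ :=
  RingHom.ext (resR_algebraMap hd)

theorem resR_resR {R : Type u} [CommRing R] {a b c : R} (hab : a ∣ b) (hbc : b ∣ c) :
    (resR hbc).comp (resR hab) = resR (hab.trans hbc) := by
  refine IsLocalization.ringHom_ext (Submonoid.powers a) ?_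
  rw [RingHom.comp_assoc, resR_comp, resR_comp, resR_comp]

theorem dvd_apply {h h' : ∀ i, A i} (hd : h ∣ h') (i : ι) : h i ∣ h' i := by
  obtain ⟨c, rfl⟩ := hd
  exact ⟨c i, rfl⟩

theorem compR_resR {h h' : ∀ i, A i} (hd : h ∣ h') (i : ι) :
    (compR h' i).comp (resR hd) = (resR (dvd_apply hd i)).comp (compR h i) := by
  refine IsLocalization.ringHom_ext (Submonoid.powers h) ?_
  rw [RingHom.comp_assoc, resR_comp, RingHom.comp_assoc, compR_comp, compR_comp, ← RingHom.comp_assoc, resR_comp]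

/-- `h'` refines `h`. -/
structure Ref (h h' : ∀ i, A i) : Prop where
  dvd : h ∣ h'
  exists_dvd_pow : ∀ i, ∃ n : ℕ, h' i ∣ h i ^ n

theorem Ref.refl (h : ∀ i, A i) : Ref h h := ⟨dvd_refl _, fun i => ⟨1, by rw [pow_one]⟩⟩

theorem Ref.trans {h h' h'' : ∀ i, A i} (a : Ref h h') (b : Ref h' h'') : Ref h h'' := by
  refine ⟨a.dvd.trans b.dvd, fun i => ?_⟩
  obtain ⟨n, hn⟩ := a.exists_dvd_pow i
  obtain ⟨m, hm⟩ := b.exists_dvd_pow i
  exact ⟨n * m, hm.trans ((pow_dvd_pow_of_dvd hn m).trans (by rw [pow_mul]))⟩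

theorem ref_pow (h : ∀ i, A i) (m : ι → ℕ) : Ref h (fun i => h i ^ (m i + 1)) :=
  ⟨⟨fun i => h i ^ m i, funext fun i => pow_succ' _ _⟩, fun i => ⟨m i + 1, dvd_rfl⟩⟩

/-- Finitely many elements vanishing componentwise vanish after refining. -/
theorem exists_ref_eq_zero (h : ∀ i, A i) {κ : Type*} (s : Finset κ) (x : κ → Localization.Away h)
    (hx : ∀ k ∈ s, ∀ i, compR h i (x k) = 0) :
    ∃ (h' : ∀ i, A i) (r : Ref h h'), ∀ k ∈ s, resR r.dvd (x k) = 0 := by
  classical
  have hm : ∀ k, ∃ (N : ℕ) (d : ∀ i, A i), x k * algebraMap _ _ (h ^ N) = algebraMap _ _ d := fun k => by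
    obtain ⟨⟨d, ⟨_, N, rfl⟩⟩, hd⟩ := IsLocalization.surj (Submonoid.powers h) (x k)
    exact ⟨N, d, hd⟩
  choose N d hd using hm
  have hz : ∀ k i, ∃ m : ℕ, k ∈ s → h i ^ m * d k i = 0 := fun k i => by
    by_cases hk : k ∈ s
    · have : algebraMap (A i) (Localization.Away (h i)) (d k i) = 0 := by
        rw [← compR_algebraMap h (d k) i, ← hd k, map_mul, hx k hk i, zero_mul]
      obtain ⟨⟨_, m, rfl⟩, hc⟩ := (IsLocalization.map_eq_zero_iff (Submonoid.powers (h i)) _ _).1 this
      exact ⟨m, fun _ => hc⟩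
    · exact ⟨0, fun h' => absurd h' hk⟩
  choose m hm using hz
  refine ⟨_, ref_pow h fun i => s.sup (m · i), fun k hk => ?_⟩
  set h' : ∀ i, A i := fun i => h i ^ (s.sup (m · i) + 1)
  have h0 : algebraMap _ (Localization.Away h') (d k) = 0 := by
    refine (IsLocalization.map_eq_zero_iff (Submonoid.powers h') _ _).2 ⟨⟨h', 1, pow_one _⟩, ?_⟩
    funext i
    have hle : m k i ≤ s.sup (m · i) + 1 := (Finset.le_sup (f := (m · i)) hk).trans (Nat.le_succ _)
    change h i ^ (s.sup (m · i) + 1) * d k i = 0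
    obtain ⟨e, he⟩ := Nat.exists_eq_add_of_le hle
    rw [he, pow_add, mul_comm (h i ^ m k i), mul_assoc, hm k i hk, mul_zero]
  have h1 := congrArg (resR (ref_pow h fun i => s.sup (m · i)).dvd) (hd k)
  rw [map_mul, resR_algebraMap, resR_algebraMap, h0] at h1
  refine (IsUnit.mul_left_eq_zero ?_).1 h1
  rw [map_pow]
  exact (isUnit_of_dvd_unit (map_dvd _ (ref_pow h fun i => s.sup (m · i)).dvd)
    (IsLocalization.Away.algebraMap_isUnit h')).pow _

variable {B : Type u} [CommRing B] [Algebra.FiniteType ℤ B]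

/-- Componentwise maps out of a ring of finite type come from one map after refining. -/
theorem exists_ref_lift (h : ∀ i, A i) (φ : ∀ i, B →+* Localization.Away (h i)) :
    ∃ (h' : ∀ i, A i) (r : Ref h h') (Φ : B →+* Localization.Away h'),
      ∀ i, (compR h' i).comp Φ = (resR (dvd_apply r.dvd i)).comp (φ i) := by
  classical
  obtain ⟨n, ψ, hψ⟩ := Algebra.FiniteType.iff_quotient_mvPolynomial''.1 (inferInstance : Algebra.FiniteType ℤ B)
  have hm : ∀ i s, ∃ (N : ℕ) (a : A i), φ i (ψ (MvPolynomial.X s)) * algebraMap _ _ (h i ^ N) = algebraMap _ _ a :=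
    fun i s => by
      obtain ⟨⟨a, ⟨_, N, rfl⟩⟩, ha⟩ := IsLocalization.surj (Submonoid.powers (h i)) (φ i (ψ (MvPolynomial.X s)))
      exact ⟨N, a, ha⟩
  choose N a ha using hm
  let M : ι → ℕ := fun i => Finset.univ.sup (N i)
  set h₁ : ∀ i, A i := fun i => h i ^ (M i + 1)
  have r₁ : Ref h h₁ := ref_pow h M
  let y : Fin n → Localization.Away h₁ := fun s =>
    IsLocalization.mk' _ (fun i => a i s * h i ^ (M i + 1 - N i s) : ∀ i, A i)
      (⟨h₁, 1, pow_one _⟩ : Submonoid.powers h₁)
  have hy : ∀ i s, compR h₁ i (y s) = resR (dvd_apply r₁.dvd i) (φ i (ψ (MvPolynomial.X s))) := fun i s => by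
    have e1 := congrArg (compR h₁ i) (IsLocalization.mk'_spec (Localization.Away h₁)
      (fun i => a i s * h i ^ (M i + 1 - N i s) : ∀ i, A i) (⟨h₁, 1, pow_one _⟩ : Submonoid.powers h₁))
    rw [map_mul, compR_algebraMap, compR_algebraMap] at e1
    have e2 := congrArg (resR (dvd_apply r₁.dvd i)) (ha i s)
    rw [map_mul, resR_algebraMap, resR_algebraMap] at e2
    refine (IsLocalization.Away.algebraMap_isUnit (S := Localization.Away (h₁ i)) (h₁ i)).mul_left_injective ?_
    change compR h₁ i (y s) * algebraMap _ _ (h₁ i) = resR _ _ * algebraMap _ _ (h₁ i)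
    rw [e1, map_mul, ← e2, mul_assoc, ← map_mul, ← pow_add,
      Nat.add_sub_of_le ((Finset.le_sup (Finset.mem_univ s)).trans (Nat.le_succ _))]
  let Ψ : MvPolynomial (Fin n) ℤ →+* Localization.Away h₁ := MvPolynomial.eval₂Hom (Int.castRingHom _) y
  have hΨ : ∀ i, (compR h₁ i).comp Ψ = ((resR (dvd_apply r₁.dvd i)).comp (φ i)).comp ψ.toRingHom := fun i =>
    MvPolynomial.ringHom_ext (fun z => by simp [Ψ]) fun s => by
      simp only [RingHom.comp_apply, Ψ, MvPolynomial.eval₂Hom_X', hy]
      rfl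
  obtain ⟨S, hS⟩ := (IsNoetherian.noetherian (RingHom.ker ψ.toRingHom) : (RingHom.ker ψ.toRingHom).FG)
  obtain ⟨h₂, r₂, hz⟩ := exists_ref_eq_zero h₁ S Ψ fun z hzS i => by
    rw [← RingHom.comp_apply, hΨ i, RingHom.comp_apply,
      RingHom.mem_ker.1 (hS ▸ Ideal.subset_span hzS : z ∈ RingHom.ker ψ.toRingHom), map_zero]
  have hker : RingHom.ker ψ.toRingHom ≤ RingHom.ker ((resR r₂.dvd).comp Ψ) := by
    rw [← hS]
    exact Ideal.span_le.2 fun z hzS => hz z hzS
  refine ⟨h₂, r₁.trans r₂, RingHom.liftOfSurjective ψ.toRingHom hψ ⟨_, hker⟩, fun i => ?_⟩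
  refine RingHom.ext fun b => ?_
  obtain ⟨z, rfl⟩ := hψ b
  have e : RingHom.liftOfSurjective ψ.toRingHom hψ ⟨_, hker⟩ (ψ z) = resR r₂.dvd (Ψ z) :=
    RingHom.liftOfRightInverse_comp_apply _ _ _ _ z
  rw [RingHom.comp_apply, e, ← RingHom.comp_apply (compR h₂ i), compR_resR, RingHom.comp_apply,
    ← RingHom.comp_apply (compR h₁ i), hΨ, RingHom.comp_apply, ← resR_resR (dvd_apply r₁.dvd i) (dvd_apply r₂.dvd i)]
  rfl

/-- Two maps out of a ring of finite type agreeing componentwise agree after refining. -/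
theorem exists_ref_comp_eq (h : ∀ i, A i) (φ γ : B →+* Localization.Away h)
    (hφγ : ∀ i, (compR h i).comp φ = (compR h i).comp γ) :
    ∃ (h' : ∀ i, A i) (r : Ref h h'), (resR r.dvd).comp φ = (resR r.dvd).comp γ := by
  obtain ⟨n, ψ, hψ⟩ := Algebra.FiniteType.iff_quotient_mvPolynomial''.1 (inferInstance : Algebra.FiniteType ℤ B)
  obtain ⟨h', r, hz⟩ := exists_ref_eq_zero h Finset.univ (fun s => φ (ψ (MvPolynomial.X s)) - γ (ψ (MvPolynomial.X s)))
    fun s _ i => by rw [map_sub, sub_eq_zero]; exact RingHom.congr_fun (hφγ i) _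
  refine ⟨h', r, RingHom.ext fun b => ?_⟩
  obtain ⟨z, rfl⟩ := hψ b
  refine RingHom.congr_fun (MvPolynomial.ringHom_ext (f := ((resR r.dvd).comp φ).comp ψ.toRingHom)
    (g := ((resR r.dvd).comp γ).comp ψ.toRingHom) (fun z => by simp) fun s => ?_) z
  have := hz s (Finset.mem_univ s)
  rw [map_sub, sub_eq_zero] at this
  exact this

omit [Algebra.FiniteType ℤ B] in
/-- If finitely many elements generate the unit ideal in every component, they do so after refining. -/
theorem exists_ref_span_eq_top (h : ∀ i, A i) (t : Finset (Localization.Away h))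
    (ht : ∀ i, Ideal.span (compR h i '' (t : Set (Localization.Away h))) = ⊤) :
    ∃ (h' : ∀ i, A i) (r : Ref h h'), Ideal.span (resR r.dvd '' (t : Set (Localization.Away h))) = ⊤ := by
  classical
  have hd : ∀ x : t, ∃ (N : ℕ) (d : ∀ i, A i), x.1 * algebraMap _ _ (h ^ N) = algebraMap _ _ d := fun x => by
    obtain ⟨⟨d, ⟨_, N, rfl⟩⟩, hd⟩ := IsLocalization.surj (Submonoid.powers h) x.1
    exact ⟨N, d, hd⟩
  choose N d hd using hd
  have hc : ∀ i, ∃ (m : ℕ) (c : t → A i), h i ^ m = ∑ x, c x * d x i := fun i => by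
    have hu : IsUnit (algebraMap (A i) (Localization.Away (h i)) (h i)) := IsLocalization.Away.algebraMap_isUnit _
    have h1 : (Ideal.span (Set.range fun x : t => d x i)).map (algebraMap _ (Localization.Away (h i))) = ⊤ := by
      rw [eq_top_iff, ← ht i, Ideal.span_le]
      rintro _ ⟨x, hx, rfl⟩
      have e := congrArg (compR h i) (hd ⟨x, hx⟩)
      rw [map_mul, compR_algebraMap, compR_algebraMap, Pi.pow_apply, map_pow] at e
      refine (Ideal.mul_unit_mem_iff_mem _ (hu.pow (N ⟨x, hx⟩))).1 ?_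
      rw [e]
      exact Ideal.mem_map_of_mem _ (Ideal.subset_span ⟨⟨x, hx⟩, rfl⟩)
    obtain ⟨⟨⟨c, hc⟩, ⟨_, m, rfl⟩⟩, hcm⟩ :=
      (IsLocalization.mem_map_algebraMap_iff (Submonoid.powers (h i)) _).1 (h1.ge (Submodule.mem_top (x := 1)))
    obtain ⟨⟨_, m', rfl⟩, hm'⟩ := (IsLocalization.eq_iff_exists (Submonoid.powers (h i)) _).1 ((one_mul _).symm.trans hcm)
    obtain ⟨c', hc'⟩ := (Ideal.mem_span_range_iff_exists_fun).1 hc
    refine ⟨m' + m, fun x => h i ^ m' * c' x, ?_⟩
    rw [pow_add]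
    refine hm'.trans ?_
    change h i ^ m' * c = _
    rw [← hc', Finset.mul_sum]
    exact Finset.sum_congr rfl fun x _ => (mul_assoc _ _ _).symm
  choose m c hc using hc
  refine ⟨_, ref_pow h m, ?_⟩
  set h' : ∀ i, A i := fun i => h i ^ (m i + 1)
  refine Ideal.eq_top_of_isUnit_mem _ ?_ (IsLocalization.Away.algebraMap_isUnit (S := Localization.Away h') h')
  have he : h' = ∑ x : t, (fun i => h i * c i x) * d x := funext fun i => by
    simp only [h', pow_succ', hc i, Finset.mul_sum, Finset.sum_apply, Pi.mul_apply, mul_assoc]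
  have hmap := congrArg (algebraMap (∀ i, A i) (Localization.Away h')) he
  rw [hmap, map_sum]
  refine Ideal.sum_mem _ fun x _ => ?_
  have e := congrArg (resR (ref_pow h m).dvd) (hd x)
  rw [map_mul, resR_algebraMap, resR_algebraMap] at e
  rw [map_mul, ← e]
  exact Ideal.mul_mem_left _ _ (Ideal.mul_mem_right _ _ (Ideal.subset_span (Set.mem_image_of_mem _ x.2)))

/-- A componentwise unimodular family is unimodular. -/
theorem span_eq_top_of_forall {κ : Type*} [Finite κ] (g : κ → ∀ i, A i)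
    (hg : ∀ i, Ideal.span (Set.range fun k => g k i) = ⊤) : Ideal.span (Set.range g) = ⊤ := by
  cases nonempty_fintype κ
  have h := fun i => Ideal.mem_span_range_iff_exists_fun.1 ((hg i).ge (Submodule.mem_top (x := 1)))
  choose c hc using h
  rw [Ideal.eq_top_iff_one, Ideal.mem_span_range_iff_exists_fun]
  exact ⟨fun k i => c i k, funext fun i => by simp [hc i]⟩

theorem span_eq_top_of_ref {κ : Type*} {g g' : κ → ∀ i, A i} (r : ∀ k, Ref (g k) (g' k)) (i : ι)
    (hg : Ideal.span (Set.range fun k => g k i) = ⊤) : Ideal.span (Set.range fun k => g' k i) = ⊤ := by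
  rw [← Ideal.radical_eq_top, eq_top_iff, ← hg, Ideal.span_le]
  rintro _ ⟨k, rfl⟩
  obtain ⟨n, hn⟩ := (r k).exists_dvd_pow i
  exact ⟨n, Ideal.mem_of_dvd _ hn (Ideal.subset_span ⟨k, rfl⟩)⟩

end Groth.Agent.AlgzW.PiRing
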