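import Groth.Agent.AlgzW.NisGen
import Groth.Agent.AlgzW.BAResDeg
import Groth.Agent.DRing.Descent

/-!
# A uniform bound: local size bounds global size

A bounded complex of finite projective `R`-modules which, along a Nisnevich cover of length at most
`N`, is isomorphic to a complex of size `N`, is globally of size bounded in terms of `N` alone.
-/

universe u

open CategoryTheory CategoryTheory.Limits TensorProduct DerivedCategory

attribute [local instance] HasDerivedCategory.standard

namespace Groth.Agent.AlgzW.SizeBound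

open Groth.Agent.DRing Groth.Agent.DRing.Homology Groth.Agent.DRing.DBasic
  Groth.Agent.DRing.TorAmp Groth.Agent.DRing.PCDescent Groth.Agent.AlgzW.NisGen

section OneRing

variable {A : Type u} [CommRing A]

/-- Cycles of a bounded above complex of projectives are direct summands where the complex is
exact above. -/
lemma exists_retraction_ker {C : DRing.Cx A} {c : ℤ} (hc : DRing.VanishesAbove C c)
    (hp : ∀ i, Module.Projective A (C.X i)) (t : ℤ) (hex : ∀ i, t < i → C.ExactAt i) :
    ∃ r : C.X t →ₗ[A] LinearMap.ker (C.d t (t + 1)).hom,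
      ∀ z : LinearMap.ker (C.d t (t + 1)).hom, r z = z := by
  suffices H : ∀ (k : ℕ) (i : ℤ), t ≤ i → c + 1 - i ≤ k →
      ∃ r : C.X i →ₗ[A] LinearMap.ker (C.d i (i + 1)).hom,
        ∀ z : LinearMap.ker (C.d i (i + 1)).hom, r z = z from
    H (c + 1 - t).toNat t le_rfl (by omega)
  intro k
  induction k with
  | zero =>
    intro i _ hi
    have := ModuleCat.subsingleton_of_isZero (hc (i + 1) (by omega))
    exact ⟨LinearMap.id.codRestrict _ fun x => Subsingleton.elim _ _, fun z => rfl⟩
  | succ k ih =>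
    intro i hti hi
    obtain ⟨r, hr⟩ := ih (i + 1) (by omega) (by omega)
    let d : C.X i →ₗ[A] LinearMap.ker (C.d (i + 1) (i + 1 + 1)).hom :=
      (C.d i (i + 1)).hom.codRestrict _ fun x => d_d i (i + 1) (i + 1 + 1) x
    have hd : Function.Surjective d := fun z => by
      obtain ⟨w, hw⟩ := (exactAt_iff_forall (i + 1) i rfl).1 (hex (i + 1) (by omega)) z.1 z.2
      exact ⟨w, Subtype.ext hw⟩
    have := hp (i + 1)
    have : Module.Projective A (LinearMap.ker (C.d (i + 1) (i + 1 + 1)).hom) :=
      Module.Projective.of_split (Submodule.subtype _) r (LinearMap.ext fun z => hr z)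
    obtain ⟨σ, hσ⟩ := Module.projective_lifting_property d LinearMap.id hd
    refine ⟨(LinearMap.id - σ.comp d).codRestrict _ (fun x => ?hcod), fun z => Subtype.ext ?hz⟩
    case hcod =>
      have h : (C.d i (i + 1)).hom (σ (d x)) = (C.d i (i + 1)).hom x :=
        congrArg Subtype.val (LinearMap.congr_fun hσ (d x))
      rw [LinearMap.mem_ker, LinearMap.sub_apply, map_sub]
      exact sub_eq_zero.2 h.symm
    case hz =>
      have hz : d z.1 = 0 := Subtype.ext z.2
      simp [hz]

lemma nGen_homology {C : DRing.Cx A} {c : ℤ} (hc : DRing.VanishesAbove C c)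
    (hp : ∀ i, Module.Projective A (C.X i)) (t : ℤ) (hex : ∀ i, t < i → C.ExactAt i)
    {n : ℕ} (h : NGen A (C.X t) n) : NGen A (C.homology t) n := by
  obtain ⟨r, hr⟩ := exists_retraction_ker hc hp t hex
  exact (h.of_surjective r fun z => ⟨z.1, hr z⟩).of_surjective (PC.clsLin C t)
    PC.clsLin_surjective

/-- A cover of the homology by a free module of given rank. -/
lemma exists_cover_rank (K : DRing.Cx A) (i j k : ℤ) (hij : j + 1 = i) (hik : i + 1 = k) {n : ℕ}
    (h : NGen A (K.homology i) n) :
    ∃ (g : ModuleCat.of A (Fin n → A) ⟶ K.X i), g ≫ K.d i k = 0 ∧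
      ∀ z, IsCyc K i z → ∃ (f : Fin n → A) (w : K.X j), g.hom f + (K.d j i).hom w = z := by
  subst hik
  obtain ⟨q, hq⟩ := h
  obtain ⟨l, hl⟩ := Module.projective_lifting_property (PC.clsLin K i) q
    PC.clsLin_surjective
  refine ⟨ModuleCat.ofHom ((LinearMap.ker (K.d i (i + 1)).hom).subtype.comp l),
    ModuleCat.hom_ext (LinearMap.ext fun x => (l x).2), fun z hz => ?_⟩
  obtain ⟨f, hf⟩ := hq (cls z hz)
  have : cls (l f).1 (l f).2 = cls z hz := (LinearMap.congr_fun hl f).trans hf
  obtain ⟨w, hw⟩ := (cls_eq_iff j hij (l f).2 hz).1 this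
  refine ⟨f, -w, ?_⟩
  rw [map_neg, hw]
  change (l f).1 + -((l f).1 - z) = z
  abel

lemma nGen_cone {E K : DRing.Cx A} (α : E ⟶ K) (i : ℤ) {n m : ℕ} (hE : NGen A (E.X (i + 1)) n)
    (hK : NGen A (K.X i) m) : NGen A ((CochainComplex.mappingCone α).X i) (n + m) :=
  (hE.prod hK).of_surjective
    ((HomologicalComplex.homotopyCofiber.XIsoBiprod α i (i + 1) rfl) ≪≫
      ModuleCat.biprodIsoProd _ _).symm.toLinearEquiv.toLinearMap
    ((HomologicalComplex.homotopyCofiber.XIsoBiprod α i (i + 1) rfl) ≪≫
      ModuleCat.biprodIsoProd _ _).symm.toLinearEquiv.surjective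

lemma projective_cone {E K : DRing.Cx A} (α : E ⟶ K) (hE : ∀ i, Module.Projective A (E.X i))
    (hK : ∀ i, Module.Projective A (K.X i)) (i : ℤ) :
    Module.Projective A ((CochainComplex.mappingCone α).X i) :=
  Trunc.projective_of_iso (HomologicalComplex.homotopyCofiber.XIsoBiprod α i (i + 1) rfl).symm
    (Trunc.projective_biprod (hE (i + 1)) (hK i))

lemma vanishesAbove_cone {E K : DRing.Cx A} (α : E ⟶ K) {e k c : ℤ}
    (hE : DRing.VanishesAbove E e) (hK : DRing.VanishesAbove K k) (he : e ≤ c + 1) (hk : k ≤ c) :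
    DRing.VanishesAbove (CochainComplex.mappingCone α) c := fun i hi => by
  rw [CochainComplex.mappingCone.isZero_X_iff]
  exact ⟨hE (i + 1) (by omega), hK i (by omega)⟩

lemma finite_cone {E K : DRing.Cx A} (α : E ⟶ K) (i : ℤ) (hE : Module.Finite A (E.X (i + 1)))
    (hK : Module.Finite A (K.X i)) : Module.Finite A ((CochainComplex.mappingCone α).X i) :=
  Module.Finite.equiv ((HomologicalComplex.homotopyCofiber.XIsoBiprod α i (i + 1) rfl) ≪≫
    ModuleCat.biprodIsoProd _ _).symm.toLinearEquiv

/-- The homology of a cone only depends on the target up to isomorphism in `D(A)`. -/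
lemma nonempty_cone_iso {E K L : DRing.Cx A} (α : E ⟶ K) (θ : K ⟶ L)
    (hθ : IsIso (DerivedCategory.Q.map θ)) :
    Nonempty (DRing.toD (CochainComplex.mappingCone α) ≅
      DRing.toD (CochainComplex.mappingCone (α ≫ θ))) := by
  let iso := Pretriangulated.isoTriangleOfIso₁₂ _ _
    (DerivedCategory.mappingCone_triangle_distinguished α)
    (DerivedCategory.mappingCone_triangle_distinguished (α ≫ θ)) (Iso.refl _) (@asIso _ _ _ _ _ hθ) (by
      change Q.map α ≫ Q.map θ = 𝟙 _ ≫ Q.map (α ≫ θ)
      rw [Category.id_comp, Functor.map_comp])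
  exact ⟨Pretriangulated.Triangle.π₃.mapIso iso⟩

/-- If a cone over a complex isomorphic in `D(A)` to a complex of size `N` is exact above `t`,
its homology in degree `t` has boundedly many generators. -/
lemma nGen_homology_cone {E K P : DRing.Cx A} {e k : ℤ} {N g : ℕ}
    (hE : DRing.VanishesAbove E e) (hEp : ∀ i, Module.Projective A (E.X i))
    (hK : DRing.VanishesAbove K k) (hKp : ∀ i, Module.Projective A (K.X i))
    (hP : W4c5algebraiztannaka.TermsOfSize P N) (h : DRing.toD P ≅ DRing.toD K) (α : E ⟶ K)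
    (t : ℤ) (hex : ∀ i, t < i → (CochainComplex.mappingCone α).ExactAt i)
    (hg : NGen A (E.X (t + 1)) g) :
    NGen A ((CochainComplex.mappingCone α).homology t) (g + N) := by
  have := isKProjective_of_projective K k hK hKp
  obtain ⟨θ, hθ⟩ := exists_Q_map_eq h.inv
  obtain ⟨u⟩ := nonempty_cone_iso α θ (hθ ▸ inferInstance)
  have hex' : ∀ i, t < i → (CochainComplex.mappingCone (α ≫ θ)).ExactAt i := fun i hi => by
    rw [HomologicalComplex.exactAt_iff_isZero_homology, ← subsingleton_HD_toD_iff,
      ← subsingleton_HD_congr u, subsingleton_HD_toD_iff,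
      ← HomologicalComplex.exactAt_iff_isZero_homology]
    exact hex i hi
  have hPb : DRing.VanishesAbove P N := fun i hi => hP.1 i (Or.inr hi)
  refine (nGen_homology (vanishesAbove_cone (α ≫ θ) (c := max (e : ℤ) N) hE hPb
    (by omega) (by omega)) (projective_cone _ hEp fun i => (hP.2 i).1) t hex'
    (nGen_cone (α ≫ θ) t hg (hP.2 t).2)).of_surjective
      ((hIso _ t).symm ≪≫ (HF t).mapIso u.symm ≪≫ hIso _ t).toLinearEquiv.toLinearMap
      ((hIso _ t).symm ≪≫ (HF t).mapIso u.symm ≪≫ hIso _ t).toLinearEquiv.surjective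

end OneRing

/-- The bound on the number of generators `k` steps below the top. -/
def G (N : ℕ) : ℕ → ℕ
  | 0 => 0
  | k + 1 => N * (N + G N k)

lemma G_mono (N : ℕ) : Monotone (G N) := by
  refine monotone_nat_of_le_succ fun k => ?_
  change G N k ≤ N * (N + G N k)
  cases N with
  | zero => induction k <;> simp [G]
  | succ N => nlinarith

variable {R B : Type u} [CommRing R] [CommRing B] [Algebra R B]

lemma nGen_extendScalars_iff (M : ModuleCat.{u} R) (n : ℕ) :
    NGen B ((ModuleCat.extendScalars.{u, u, u} (algebraMap R B)).obj M : Type u) n ↔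
      NGen B (B ⊗[R] M) n := by
  have e : (algebraMap R B).toAlgebra = (inferInstance : Algebra R B) :=
    Algebra.algebra_ext _ _ fun _ => rfl
  suffices H : ∀ (φ : R →+* B), φ.toAlgebra = (inferInstanceAs (Algebra R B)) →
      (NGen B ((ModuleCat.extendScalars.{u, u, u} φ).obj M : Type u) n ↔ NGen B (B ⊗[R] M) n) from
    H _ e
  intro φ h
  rename_i inst
  change φ.toAlgebra = inst at h
  subst h
  rfl

/-- The class of modules allowed in degree `i`. -/
def Cls (R : Type u) [CommRing R] (N : ℕ) (i : ℤ) (M : ModuleCat.{u} R) : Prop :=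
  Module.Finite R M ∧ Module.Free R M ∧
    (-(N : ℤ) ≤ i → NGen R M (G N ((N : ℤ) + 1 - i).toNat))

lemma cls_of_iso {N : ℕ} {i : ℤ} {M M' : ModuleCat.{u} R} (e : M ≅ M') (h : Cls R N i M) :
    Cls R N i M' :=
  ⟨have := h.1; Module.Finite.equiv e.toLinearEquiv,
    have := h.2.1; Module.Free.of_equiv e.toLinearEquiv,
    fun hi => (h.2.2 hi).of_surjective e.toLinearEquiv.toLinearMap e.toLinearEquiv.surjective⟩

lemma cls_of_isZero {N : ℕ} (i : ℤ) {M : ModuleCat.{u} R} (h : IsZero M) : Cls R N i M :=
  have := ModuleCat.subsingleton_of_isZero h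
  ⟨inferInstance, Module.Free.of_subsingleton R M, fun _ => .of_subsingleton _⟩

/-- **The resolution step**. -/
lemma step {K : DRing.Cx R} {a b : ℤ} (hK : DRing.VanishesOutside K a b)
    (hKp : DRing.TermwiseFiniteProjective K) {N : ℕ}
    (hcov : W4c5algebraiztannaka.IsNisCoverLen
      (AlgebraicGeometry.Spec.map (CommRingCat.ofHom (algebraMap R B))) N)
    {P : DRing.Cx B} (hP : W4c5algebraiztannaka.TermsOfSize P N)
    (e : DRing.toD P ≅ DRing.toD ((W4c5algebraiztannaka.bcCx (algebraMap R B)).obj K)) :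
    BAResDeg.Step K (Cls R N) (N : ℤ) := by
  intro m E α hm hEv hE hex
  have hEp : ∀ i, Module.Projective R (E.X i) := fun i => have := (hE i).2.1; inferInstance
  have hEb : DRing.VanishesAbove E (N : ℤ) := fun i hi => hEv i (Or.inr hi)
  have hKb : DRing.VanishesAbove K b := fun i hi => hK i (Or.inr hi)
  have hfin : Module.Finite R ((CochainComplex.mappingCone α).homology (m - 1)) := by
    have := finite_cone α (m - 1) (hE _).1 (hKp _).1
    obtain ⟨n, f, hf⟩ :=
      Module.Finite.exists_fin' R ((CochainComplex.mappingCone α).X (m - 1))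
    exact (nGen_homology (vanishesAbove_cone α (c := max (N : ℤ) b) hEb hKb (by omega) (by omega))
      (projective_cone α hEp fun i => (hKp i).2) (m - 1) (fun i hi => hex i (by omega))
      ⟨f, hf⟩).finite
  have hgen : ∃ n, NGen R ((CochainComplex.mappingCone α).homology (m - 1)) n ∧
      (-(N : ℤ) ≤ m - 1 → n ≤ G N ((N : ℤ) + 1 - (m - 1)).toNat) := by
    by_cases hm1 : -(N : ℤ) ≤ m - 1
    · refine ⟨_, ?_, fun _ => le_rfl⟩
      have hff := faithfullyFlat hcov
      have hg : NGen R (E.X (m - 1 + 1)) (G N ((N : ℤ) + 1 - m).toNat) := by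
        have := (hE m).2.2 (by omega)
        exact this.of_surjective (E.XIsoOfEq (show m = m - 1 + 1 by omega)).toLinearEquiv.toLinearMap
          (E.XIsoOfEq (show m = m - 1 + 1 by omega)).toLinearEquiv.surjective
      let φ := algebraMap R B
      let α' := (LTensor.extCx φ).map α
      have hC : (CochainComplex.mappingCone α').homology (m - 1) ≅
          (ModuleCat.extendScalars.{u, u, u} φ).obj
            ((CochainComplex.mappingCone α).homology (m - 1)) :=
        (HomologicalComplex.homologyFunctor _ _ (m - 1)).mapIso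
          (CochainComplex.mappingCone.mapHomologicalComplexIso α
            (ModuleCat.extendScalars.{u, u, u} φ)).symm ≪≫
          homologyExtIso φ (flat hcov) _ _
      have hexB : ∀ i, m - 1 < i → (CochainComplex.mappingCone α').ExactAt i := fun i hi => by
        rw [HomologicalComplex.exactAt_iff_isZero_homology]
        refine IsZero.of_iso ?_ ((HomologicalComplex.homologyFunctor _ _ i).mapIso
          (CochainComplex.mappingCone.mapHomologicalComplexIso α
            (ModuleCat.extendScalars.{u, u, u} φ)).symm ≪≫ homologyExtIso φ (flat hcov) _ _)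
        exact Functor.map_isZero _ ((HomologicalComplex.exactAt_iff_isZero_homology _ _).1
          (hex i (by omega)))
      have hB := nGen_homology_cone (e := (N : ℤ)) (k := b)
        (fun i hi => Perfect.isZero_extCx φ (hEb i hi))
        (fun i => Perfect.projective_extendScalars φ (hEp i))
        (fun i hi => Perfect.isZero_extCx φ (hKb i hi))
        (fun i => Perfect.projective_extendScalars φ (hKp i).2) hP e α' (m - 1) hexB
        (g := G N ((N : ℤ) + 1 - m).toNat)
        ((nGen_extendScalars_iff (E.X (m - 1 + 1)) _).2 (hg.baseChange B))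
      have hB' : NGen B (B ⊗[R] ((CochainComplex.mappingCone α).homology (m - 1) :))
          (G N ((N : ℤ) + 1 - m).toNat + N) :=
        (nGen_extendScalars_iff _ _).1
          (hB.of_surjective hC.toLinearEquiv.toLinearMap hC.toLinearEquiv.surjective)
      have := nGen_of_isNisCoverLen hcov hB'
      rwa [show ((N : ℤ) + 1 - (m - 1)).toNat = ((N : ℤ) + 1 - m).toNat + 1 by omega,
        G, Nat.add_comm N]
    · obtain ⟨n, f, hf⟩ :=
        Module.Finite.exists_fin' R ((CochainComplex.mappingCone α).homology (m - 1))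
      exact ⟨n, ⟨f, hf⟩, fun h => absurd h hm1⟩
  obtain ⟨n, hn, hnle⟩ := hgen
  obtain ⟨g, hg, hgs⟩ := exists_cover_rank _ (m - 1) (m - 2) m (by omega) (by omega) hn
  refine ⟨ModuleCat.of R (Fin n → R), g, ⟨inferInstanceAs (Module.Finite R (Fin n → R)),
    inferInstanceAs (Module.Free R (Fin n → R)), fun h => ?_⟩, hg, hgs⟩
  exact NGen.mono (M := (Fin n → R)) ⟨LinearMap.id, fun x => ⟨x, rfl⟩⟩ (hnle h)

/-- **Local size bounds global size**. -/
theorem globSize {K : DRing.Cx R} {a b : ℤ} (hK : DRing.VanishesOutside K a b)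
    (hKp : DRing.TermwiseFiniteProjective K) {N : ℕ}
    (hcov : W4c5algebraiztannaka.IsNisCoverLen
      (AlgebraicGeometry.Spec.map (CommRingCat.ofHom (algebraMap R B))) N)
    {P : DRing.Cx B} (hP : W4c5algebraiztannaka.TermsOfSize P N)
    (e : DRing.toD P ≅ DRing.toD ((W4c5algebraiztannaka.bcCx (algebraMap R B)).obj K)) :
    W4c5algebraiztannaka.GlobSize R (DRing.toD K) (G N (2 * N + 1) + N) := by
  have hff := faithfullyFlat hcov
  have htor : DRing.HasTorAmplitudeIn R (-(N : ℤ)) N (DRing.toD K) :=
    Descent.torAmp_of_detects (ψ := fun _ : Unit => algebraMap R B) (fun _ => flat hcov)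
      Descent.detects_faithfullyFlat K _ _ fun _ =>
      ⟨P, hP.1, fun i => have := (hP.2 i).1; inferInstance, ⟨e⟩⟩
  have hKex : ∀ i, (N : ℤ) < i → K.ExactAt i := fun i hi => by
    rw [HomologicalComplex.exactAt_iff_isZero_homology, ← subsingleton_HD_toD_iff]
    exact torAmp_boundedHD htor i (Or.inr hi)
  obtain ⟨F, π, hFb, hF, hπ⟩ := BAResDeg.exists_resolution (C := Cls R N) (b := (N : ℤ)) hKex
    (fun e h => cls_of_iso e h) (fun i M hM => cls_of_isZero i hM) (step hK hKp hcov hP e)
  have hFp : ∀ i, Module.Projective R (F.X i) := fun i => have := (hF i).2.1; inferInstance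
  let e' : DRing.toD F ≅ DRing.toD K := asIso (Q.map π)
  obtain ⟨h1, h2, ⟨h3⟩⟩ := exists_tauGE_rep hFb (fun i => have := hFp i; inferInstance)
    (fun M i hi => (hasTorAmp_iff (isKFlat_of_projective hFb hFp) e' _ _).1 htor M i (Or.inl hi)) e'
  have hle : G N (2 * N + 1) ≤ G N (2 * N + 1) + N := Nat.le_add_right _ _
  refine ⟨_, ⟨fun i hi => h1 i (by omega), fun i => ?_⟩, ⟨h3⟩⟩
  rcases lt_trichotomy i (-(N : ℤ)) with hi | rfl | hi
  · have := ModuleCat.subsingleton_of_isZero (Trunc.tauGE_X_isZero F _ hi)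
    exact ⟨Trunc.projective_of_isZero (Trunc.tauGE_X_isZero F _ hi), NGen.of_subsingleton _⟩
  · refine ⟨?_, ?_⟩
    · have := (hF (-(N : ℤ))).1
      have := (hF (-(N : ℤ) - 1)).1
      have := hFp (-(N : ℤ))
      have : Module.FinitePresentation R (F.X (-(N : ℤ))) :=
        Module.finitePresentation_of_projective _ _
      have : Module.FinitePresentation R
          (F.X (-(N : ℤ)) ⧸ Trunc.killSub F (-(N : ℤ)) (-(N : ℤ))) :=
        Module.finitePresentation_of_surjective (Trunc.killSub F _ _).mkQ
          (Submodule.mkQ_surjective _)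
          (by rw [Submodule.ker_mkQ, Trunc.killSub_eq_range]; exact Module.Finite.iff_fg.1 inferInstance)
      have : Module.Flat R (F.X (-(N : ℤ)) ⧸ Trunc.killSub F (-(N : ℤ)) (-(N : ℤ))) := h2 _
      exact (Module.Flat.projective_of_finitePresentation (R := R)
        (M := F.X (-(N : ℤ)) ⧸ Trunc.killSub F (-(N : ℤ)) (-(N : ℤ))) :)
    · exact ((((hF _).2.2 le_rfl).mono (G_mono N (by omega))).mono hle).of_surjective
        (Trunc.killSub F _ _).mkQ (Submodule.mkQ_surjective _)
  · refine ⟨Trunc.projective_of_iso (Trunc.tauGE_XIso F _ hi).symm (hFp i), ?_⟩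
    exact ((((hF i).2.2 hi.le).mono (G_mono N (by omega))).mono hle).of_surjective
      (Trunc.tauGE_XIso F _ hi).symm.toLinearEquiv.toLinearMap
      (Trunc.tauGE_XIso F _ hi).symm.toLinearEquiv.surjective

end Groth.Agent.AlgzW.SizeBound
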