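import Groth.Agent.AlgzW.PiPoints
import Mathlib.AlgebraicGeometry.PullbackCarrier
import Mathlib.AlgebraicGeometry.Morphisms.QuasiCompact

/-!
# A uniform number of affines covering the pullbacks of a quasi-compact morphism to affine schemes
-/

set_option autoImplicit false

universe u

open CategoryTheory CategoryTheory.Limits AlgebraicGeometry TopologicalSpace

namespace AlgzW.UniformCover

variable {W Y : Scheme.{u}} (j : W ⟶ Y)

/-- For affine opens `W' → V` of `W → Y` and an affine open `D` of `T` over `V`, the preimage of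
`W' ×_V D` in the fibre product is an affine open. -/
theorem isAffineOpen_inf {T : Scheme.{u}} (g : T ⟶ Y) {V : Y.Opens} (hV : IsAffineOpen V)
    {W' : W.Opens} (hW : IsAffineOpen W') {D : T.Opens} (hD : IsAffineOpen D)
    (hWV : W' ≤ j ⁻¹ᵁ V) (hDV : D ≤ g ⁻¹ᵁ V) :
    IsAffineOpen ((pullback.fst j g ⁻¹ᵁ W') ⊓ (pullback.snd j g ⁻¹ᵁ D)) := by
  haveI : IsAffine V.toScheme := hV
  haveI : IsAffine W'.toScheme := hW
  haveI : IsAffine D.toScheme := hD
  let i := pullback.map (j.resLE V W' hWV) (g.resLE V D hDV) j g W'.ι D.ι V.ι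
    (by simp) (by simp)
  have he : i.opensRange = (pullback.fst j g ⁻¹ᵁ W') ⊓ (pullback.snd j g ⁻¹ᵁ D) := by
    apply TopologicalSpace.Opens.ext
    rw [Scheme.Hom.coe_opensRange, TopologicalSpace.Opens.coe_inf, Scheme.Pullback.range_map,
      Scheme.Opens.range_ι, Scheme.Opens.range_ι]
    rfl
  rw [← he]
  exact isAffineOpen_opensRange i

/-- A uniform number of affine opens covers every base change of a quasi-compact morphism with
quasi-compact target to an affine scheme. -/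
theorem exists_uniform [QuasiCompact j] [CompactSpace Y] :
    ∃ m : ℕ, ∀ (B : CommRingCat.{u}) (g : Spec B ⟶ Y),
      ∃ U : Fin m → (pullback j g).Opens, (∀ k, IsAffineOpen (U k)) ∧ ⨆ k, U k = ⊤ := by
  obtain ⟨r, V, hV, hVc⟩ : ∃ (r : Type u) (V : r → Y.Opens), (∀ i, IsAffineOpen (V i)) ∧
      (Finite r ∧ ∀ y, ∃ i, y ∈ V i) := by
    obtain ⟨ι, hι, V, hV, hc⟩ : ∃ (ι : Type u) (_ : Finite ι) (V : ι → Y.Opens),
        (∀ i, IsAffineOpen (V i)) ∧ ∀ y, ∃ i, y ∈ V i := by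
      let 𝒰 := Y.affineCover.finiteSubcover
      refine ⟨𝒰.I₀, inferInstance, fun i => (𝒰.f i).opensRange,
        fun i => isAffineOpen_opensRange _, fun y => ?_⟩
      obtain ⟨i, hi⟩ := Set.mem_iUnion.mp (show y ∈ ⋃ i, Set.range (𝒰.f i) by
        rw [𝒰.iUnion_range]; trivial)
      exact ⟨i, hi⟩
    exact ⟨ι, V, hV, hι, hc⟩
  haveI := hVc.1
  have hcov : ∀ i, ∃ (κ : Type u) (_ : Finite κ) (A : κ → W.Opens),
      (∀ k, IsAffineOpen (A k) ∧ A k ≤ j ⁻¹ᵁ V i) ∧ ∀ w ∈ j ⁻¹ᵁ V i, ∃ k, w ∈ A k := by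
    intro i
    have hc : IsCompact ((j ⁻¹ᵁ V i : W.Opens) : Set W) :=
      QuasiCompact.isCompact_preimage _ (V i).2 (hV i).isCompact
    choose A hA hwA hAle using fun w : (j ⁻¹ᵁ V i : W.Opens) =>
      exists_isAffineOpen_mem_and_subset (U := j ⁻¹ᵁ V i) w.2
    obtain ⟨t, ht⟩ := hc.elim_finite_subcover (fun w => (A w : Set W)) (fun w => (A w).2)
      (fun w hw => Set.mem_iUnion.mpr ⟨⟨w, hw⟩, hwA ⟨w, hw⟩⟩)
    refine ⟨t, inferInstance, fun k => A k.1, fun k => ⟨hA _, hAle _⟩, fun w hw => ?_⟩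
    obtain ⟨k, hk, hwk⟩ := Set.mem_iUnion₂.mp (ht hw)
    exact ⟨⟨k, hk⟩, hwk⟩
  choose κ hκ A hA hAc using hcov
  obtain ⟨m, ⟨e⟩⟩ := Finite.exists_equiv_fin (Σ i, κ i)
  refine ⟨m, fun B g => ?_⟩
  obtain ⟨a, ha, hle⟩ := Groth.Agent.AlgzW.PiPoints.exists_cover_elems (R := B) (fun i => g ⁻¹ᵁ V i)
    (fun x => hVc.2 (g x))
  have hle' : ∀ i, (PrimeSpectrum.basicOpen (a i) : (Spec B).Opens) ≤ g ⁻¹ᵁ V i := fun i x hx =>
    hle i (by rw [Groth.Agent.AlgzW.PiPoints.range_loc]; exact hx)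
  let U : (Σ i, κ i) → (pullback j g).Opens := fun p =>
    (pullback.fst j g ⁻¹ᵁ A p.1 p.2) ⊓
      (pullback.snd j g ⁻¹ᵁ (PrimeSpectrum.basicOpen (a p.1) : (Spec B).Opens))
  refine ⟨fun n => U (e.symm n), fun n => isAffineOpen_inf j g (hV _) (hA _ _).1
    (IsAffineOpen.Spec_basicOpen _) (hA _ _).2 (hle' _), top_le_iff.mp fun p _ => ?_⟩
  obtain ⟨i, hi⟩ : ∃ i, pullback.snd j g p ∈ (PrimeSpectrum.basicOpen (a i) : (Spec B).Opens) := by
    by_contra hne
    push Not at hne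
    refine (pullback.snd j g p).isPrime.ne_top (top_le_iff.mp ?_)
    rw [← ha, Ideal.span_le]
    rintro _ ⟨i, rfl⟩
    exact not_not.mp (hne i)
  have hw : pullback.fst j g p ∈ j ⁻¹ᵁ V i := by
    show j (pullback.fst j g p) ∈ V i
    rw [← Scheme.Hom.comp_apply, pullback.condition, Scheme.Hom.comp_apply]
    exact hle' i hi
  obtain ⟨k, hk⟩ := hAc i _ hw
  exact TopologicalSpace.Opens.mem_iSup.mpr ⟨e ⟨i, k⟩, by simp only [U, Equiv.symm_apply_apply]; exact ⟨hk, hi⟩⟩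

end AlgzW.UniformCover
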